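import Groth.Agent.L21.AffCd.Smooth

/-!
The Picard group of an affine curve is divisible by the integers invertible in the base field.
-/

set_option autoImplicit false
set_option linter.style.haveILetI false
set_option linter.unusedSectionVars false
set_option backward.isDefEq.respectTransparency false
set_option backward.isDefEq.respectTransparency.types false

universe u

open CategoryTheory CategoryTheory.Limits AlgebraicGeometry Opposite CategoryTheory.Abelian
open EtSix

noncomputable section

namespace Groth.L12.PicModQ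

theorem pic_affine_divisible {k : Type u} [Field k] [IsAlgClosed k] {Y : Scheme.{u}} [IsAffine Y]
    (g : Y ⟶ Spec (CommRingCat.of k)) [LocallyOfFiniteType g] (hdim : topologicalKrullDim Y ≤ 1)
    [PicGrp.Law Y] (n : ℕ) [NeZero n] (hn : (n : k) ≠ 0) (c : Additive (PicLoc.PicSet Y)) :
    ∃ z, n • z = c := by
  let i : k →+* Γ(Y, ⊤) := ((Scheme.ΓSpecIso (CommRingCat.of k)).inv ≫ g.appTop).hom
  have hu : IsUnit (n : Γ(Y, ⊤)) := by
    have := (isUnit_iff_ne_zero.2 hn).map i
    rwa [map_natCast] at this
  have h := Groth.L28.GmTorsion.epi_powMap hu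
  obtain ⟨e⟩ := Groth.L28.GmH1.nonempty_equiv_pic Y
  obtain ⟨ec⟩ := Groth.L21.CurveKummer.nonempty_const_iso_mu g n hn
  haveI : Subsingleton (EtCoh.H Y (EtCoh.mu Y n) 2) :=
    (Groth.L21.CurveKummer.congrH ec 2).toEquiv.subsingleton_congr.1
      (Groth.L21.AffCd.subsingleton_H2_const n hn g hdim)
  have hy := Ext.covariant_sequence_exact₃ _ (kummerShortExact h) (e c) (show 1 + 1 = 2 from rfl)
    (Subsingleton.elim (α := EtCoh.H Y (EtCoh.mu Y n) 2) _ _)
  obtain ⟨y, hy⟩ := hy
  refine ⟨e.symm y, e.injective ?_⟩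
  rw [map_nsmul, e.apply_symm_apply]
  exact (Groth.L28.GmTorsion.comp_mk₀_powMap n 1 y).symm.trans hy

end Groth.L12.PicModQ
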