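import Groth.Agent.L22.PicGlue.Curve
import Groth.Agent.L21.Extend.Split
import Groth.Agent.L18.GenLocus
import Groth.Prelude.Def_PicGrp

/-!
Classes of invertible modules with a generator on an open, as a function of their coefficients at
generators near the complement.
-/

set_option autoImplicit false
set_option linter.style.haveILetI false
set_option linter.unusedSectionVars false
set_option backward.isDefEq.respectTransparency false

universe u

open CategoryTheory AlgebraicGeometry TopologicalSpace Opposite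

noncomputable section

namespace Groth.L12.PicModQ

open Groth.L22.PicGlue
open Groth.L21.Extend (rs rO rs_rs rs_smul rs_self IsGen GenOn SupportedOn)

variable {X : Scheme.{u}} (U : X.Opens) {κ : Type u} (N : κ → X.Opens)

/-- The members meet inside `U` and cover its complement. -/
structure Cover : Prop where
  inter : ∀ k l, k ≠ l → N k ⊓ N l ≤ U
  cover : ∀ x, x ∉ U → ∃ k, x ∈ N k

/-- `L` has generators on `U` and on the `N k` related by `v`. -/
def HasTrans (v : ∀ k, Γ(X, N k ⊓ U)) (L : X.Modules) : Prop :=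
  ∃ (e : Γ(L, U)) (l : ∀ k, Γ(L, N k)), IsGen L U e ∧ (∀ k, IsGen L (N k) (l k)) ∧
    ∀ k, rs L inf_le_left (l k) = v k • rs L inf_le_right e

/-- All members. -/
def optN : Option κ → X.Opens := fun o => o.elim U N

/-- The generators on all members. -/
def optGen {L : X.Modules} (e : Γ(L, U)) (l : ∀ k, Γ(L, N k)) : ∀ o, Γ(L, optN U N o)
  | none => e
  | some k => l k

variable {U N}

theorem HasTrans.iso (hc : Cover U N) {v : ∀ k, Γ(X, N k ⊓ U)} {L L' : X.Modules} (h : HasTrans U N v L)
    (h' : HasTrans U N v L') : Nonempty (L ≅ L') := by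
  obtain ⟨e, l, he, hl, hv⟩ := h
  obtain ⟨e', l', he', hl', hv'⟩ := h'
  have hg : ∀ o, IsGen L (optN U N o) (optGen U N e l o) := fun o => by
    rcases o with _ | k
    · exact he
    · exact hl k
  refine nonempty_iso_of_gens (optN U N) hg (fun o => ?_) (fun x => ?_)
    (sameTrans_star (optN U N) (e := optGen U N e l) (e' := optGen U N e' l') v he hv hv' hc.inter hg)
  · rcases o with _ | k
    · exact he'
    · exact hl' k
  · by_cases hx : x ∈ U
    · exact ⟨none, hx⟩
    · obtain ⟨k, hk⟩ := hc.cover x hx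
      exact ⟨some k, hk⟩

theorem exists_hasTrans (hc : Cover U N) (v : ∀ k, Γ(X, N k ⊓ U)ˣ) :
    ∃ L : X.Modules, PicF.IsInvertible L ∧ HasTrans U N (fun k => (v k : Γ(X, N k ⊓ U))) L := by
  let M := (Scheme.Modules.pushforward U.ι).obj (Coh.structureModule (↑U : Scheme.{u}))
  obtain ⟨m, hm⟩ : ∃ m : Γ(M, U), IsGen M U m := exists_gen_pushforward U
  have hs : SupportedOn M U := Groth.L21.Extend.supportedOn_pushforward le_rfl _
  have hgen : GenOn M U := Groth.L21.Extend.genOn_pushforward _ (Groth.L21.Extend.isInvertible_structureModule _)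
  let D : ExtInput U M :=
    { κ := κ
      N := N
      e := fun k => (v k : Γ(X, N k ⊓ U)) • rs M inf_le_right m
      isGen := fun k => Groth.L18.Frame.IsFrame.smul_unit (hm.restrict M inf_le_right) (v k).isUnit
      inter := hc.inter
      cover := hc.cover }
  obtain ⟨m', hm', hrel⟩ := exists_gen_extension hgen D hs hm (fun k => (v k : Γ(X, N k ⊓ U))) (fun k => rfl)
  exact ⟨extension hgen D, isInvertible_extension hgen D, m', extGen hgen D, hm', isGen_extGen hgen D, hrel⟩

theorem HasTrans.mul {v v' : ∀ k, Γ(X, N k ⊓ U)} {L L' : X.Modules} (h : HasTrans U N v L)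
    (h' : HasTrans U N v' L') : HasTrans U N (fun k => v k * v' k) (CohB1.tensorMod L L') := by
  obtain ⟨e, l, he, hl, hv⟩ := h
  obtain ⟨e', l', he', hl', hv'⟩ := h'
  refine ⟨Groth.L18.GenLoc.tens L L' U e e', fun k => Groth.L18.GenLoc.tens L L' (N k) (l k) (l' k),
    Groth.L18.GenLoc.isFrame_tens he he', fun k => Groth.L18.GenLoc.isFrame_tens (hl k) (hl' k), fun k => ?_⟩
  refine (Groth.L18.GenLoc.tens_rs _ _ _).trans ?_
  refine Eq.trans ?_ (congrArg (_ • ·) (Groth.L18.GenLoc.tens_rs _ _ _)).symm
  rw [show Groth.L18.Frame.rs L inf_le_left (l k) = _ from hv k,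
    show Groth.L18.Frame.rs L' inf_le_left (l' k) = _ from hv' k,
    Groth.L18.GenLoc.tens_smul_left, Groth.L18.GenLoc.tens_smul_right, smul_smul]

theorem hasTrans_of_units (u : ∀ k, Γ(X, N k)) (hu : ∀ k, IsUnit (u k)) :
    HasTrans U N (fun k => rO X inf_le_left (u k)) (Coh.structureModule X) := by
  have hb : ∀ (W V : X.Opens) (h : V ≤ W),
      rs (Coh.structureModule X) h (show Γ(Coh.structureModule X, W) from (1 : Γ(X, W))) = (1 : Γ(X, V)) :=
    fun W V h => map_one (X.presheaf.map (homOfLE h).op).hom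
  have hone : ∀ W : X.Opens, IsGen (Coh.structureModule X) W (show Γ(Coh.structureModule X, W) from (1 : Γ(X, W))) :=
    fun W V h => by
      rw [show (fun a : Γ(X, V) => a • rs (Coh.structureModule X) h
          (show Γ(Coh.structureModule X, W) from (1 : Γ(X, W)))) = fun a => (show Γ(Coh.structureModule X, V) from a) from
        funext fun a => by rw [hb W V h]; exact mul_one a]
      exact Function.bijective_id
  refine ⟨(1 : Γ(X, U)), fun k => u k • (show Γ(Coh.structureModule X, N k) from (1 : Γ(X, N k))), hone U,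
    fun k => Groth.L18.Frame.IsFrame.smul_unit (hone _) (hu k), fun k => ?_⟩
  rw [rs_smul, hb, hb]

theorem HasTrans.restrict {N' : κ → X.Opens} (hN : ∀ k, N' k ≤ N k) {v : ∀ k, Γ(X, N k ⊓ U)} {L : X.Modules}
    (h : HasTrans U N v L) : HasTrans U N' (fun k => rO X (inf_le_inf_right U (hN k)) (v k)) L := by
  obtain ⟨e, l, he, hl, hv⟩ := h
  refine ⟨e, fun k => rs L (hN k) (l k), he, fun k => (hl k).restrict L _, fun k => ?_⟩
  have := congrArg (rs L (inf_le_inf_right U (hN k))) (hv k)
  rw [rs_rs, rs_smul, rs_rs] at this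
  rw [rs_rs]
  exact this

/-- The class as a homomorphism in the coefficients. -/
theorem exists_hom [PicGrp.Law X] (hc : Cover U N) :
    ∃ Φ : (∀ k, Γ(X, N k ⊓ U)ˣ) →* PicLoc.PicSet X,
      ∀ (v : ∀ k, Γ(X, N k ⊓ U)ˣ) (L : X.Modules) (hL : PicF.IsInvertible L),
        HasTrans U N (fun k => (v k : Γ(X, N k ⊓ U))) L → Φ v = PicGrp.cls L hL := by
  choose L hL hv using exists_hasTrans hc
  have key : ∀ v M (hM : PicF.IsInvertible M), HasTrans U N (fun k => (v k : Γ(X, N k ⊓ U))) M →
      PicGrp.cls (L v) (hL v) = PicGrp.cls M hM :=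
    fun v M hM h => (PicGrp.cls_eq_cls_iff _ _).2 ((hv v).iso hc h)
  refine ⟨MonoidHom.mk' (fun v => PicGrp.cls (L v) (hL v)) (fun v v' => ?_), key⟩
  refine (key (v * v') _ (Groth.L18.GenLoc.isInvertible_tensor (hL v) (hL v')) ((hv v).mul (hv v'))).trans ?_
  exact Subtype.ext (PicGrp.cls_mul_cls_val _ _).symm

end Groth.L12.PicModQ
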