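import Groth.Agent.L05.Models.UnitDivisor
import Groth.Agent.L22.PicGlue.Cocycle
import Mathlib.RingTheory.DiscreteValuationRing.TFAE
import Mathlib.Dynamics.Newton

/-!
Functions near a point whose reduced local ring is a discrete valuation ring: off the point they are,
up to roots, powers of a parameter times units.
-/

set_option autoImplicit false
set_option linter.style.haveILetI false
set_option linter.unusedSectionVars false
set_option backward.isDefEq.respectTransparency false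

universe u

open CategoryTheory AlgebraicGeometry TopologicalSpace Opposite

noncomputable section

namespace Groth.L12.PicModQ

variable {Y Z : Scheme.{u}}

/-- Restriction of units. -/
abbrev resU {V W : Y.Opens} (h : W ≤ V) : Γ(Y, V)ˣ →* Γ(Y, W)ˣ :=
  Units.map (Y.presheaf.map (homOfLE h).op).hom.toMonoidHom

theorem exists_root_one_add {A : Type*} [CommRing A] {q : ℕ} (hq : IsUnit (q : A)) {μ : A}
    (hμ : IsNilpotent μ) : ∃ w : A, w ^ q = 1 + μ := by
  let P : Polynomial A := Polynomial.X ^ q - Polynomial.C (1 + μ)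
  obtain ⟨w, ⟨-, hw⟩, -⟩ := Polynomial.existsUnique_nilpotent_sub_and_aeval_eq_zero (P := P) (x := (1 : A))
    (by simpa [P] using hμ) (by simpa [P, Polynomial.derivative_X_pow] using hq)
  exact ⟨w, sub_eq_zero.1 (by simpa [P] using hw)⟩

/-- The kernel of the map to a closed subscheme covering a neighbourhood is nil. -/
theorem isNilpotent_of_stalkMap_eq_zero (j : Z ⟶ Y) [IsClosedImmersion j] {z : Z} {O : Y.Opens}
    (hzO : j z ∈ O) (hO : (O : Set Y) ⊆ Set.range j) {a : Y.presheaf.stalk (j z)}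
    (h : j.stalkMap z a = 0) : IsNilpotent a := by
  obtain ⟨W, hyW, a', rfl⟩ := Y.presheaf.exists_germ_eq a
  rw [Scheme.Hom.germ_stalkMap_apply] at h
  obtain ⟨Z', hzZ', i₁, _, he⟩ := Z.presheaf.germ_eq z (show z ∈ j ⁻¹ᵁ W from hyW) (show z ∈ j ⁻¹ᵁ W from hyW) (j.app W a') 0 (h.trans (map_zero _).symm)
  rw [map_zero] at he
  obtain ⟨W', hW', hW'Z⟩ := j.isClosedEmbedding.isEmbedding.isInducing.isOpen_iff.1 Z'.2
  obtain ⟨V, hV, hyV, hVle⟩ := exists_isAffineOpen_mem_and_subset (U := W ⊓ O ⊓ ⟨W', hW'⟩) (x := j z)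
    ⟨⟨hyW, hzO⟩, (Set.ext_iff.1 hW'Z z).2 hzZ'⟩
  have hVW : V ≤ W := fun p hp => (hVle hp).1.1
  have hnil : IsNilpotent (Y.presheaf.map (homOfLE hVW).op a') := by
    rw [Scheme.isNilpotent_iff_basicOpen_eq_bot_of_isCompact hV.isCompact, eq_bot_iff, Scheme.basicOpen_res]
    rintro p ⟨hpV, hpa⟩
    obtain ⟨z', rfl⟩ := hO (hVle hpV).1.2
    have hz' : z' ∈ Z' := (Set.ext_iff.1 hW'Z z').1 (hVle hpV).2
    have h1 := ((Scheme.mem_basicOpen Y a' (j z') (hVW hpV)).1 hpa).map (j.stalkMap z').hom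
    change IsUnit (j.stalkMap z' (Y.presheaf.germ W (j z') (hVW hpV) a')) at h1
    rw [Scheme.Hom.germ_stalkMap_apply] at h1
    have h2 := Z.presheaf.germ_res_apply i₁ z' hz' (j.app W a')
    rw [he, map_zero] at h2
    exact (not_isUnit_zero (h2 ▸ h1)).elim
  have := hnil.map (Y.presheaf.germ V (j z) hyV).hom
  change IsNilpotent (Y.presheaf.germ V (j z) hyV (Y.presheaf.map (homOfLE hVW).op a')) at this
  rwa [Y.presheaf.germ_res_apply] at this

variable (j : Z ⟶ Y) [IsClosedImmersion j] [IsIntegral Z] [IsNoetherian Z]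

/-- A parameter near a regular point of a one-dimensional integral closed subscheme. -/
theorem exists_param (hd : topologicalKrullDim Z = 1) {z : Z} (hzc : IsClosed ({z} : Set Z))
    (hzne : z ≠ genericPoint Z) (hp : (IsLocalRing.maximalIdeal (Z.presheaf.stalk z)).IsPrincipal)
    {O : Y.Opens} (hzO : j z ∈ O) (hO : (O : Set Y) ⊆ Set.range j) :
    ∃ (V : Y.Opens) (hV : IsAffineOpen V) (hyV : j z ∈ V) (t : Γ(Y, V)), V ≤ O ∧
      (Y.basicOpen t : Set Y) = (V : Set Y) \ {j z} ∧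
      IsLocalRing.maximalIdeal (Z.presheaf.stalk z) = Ideal.span {j.stalkMap z (Y.presheaf.germ V (j z) hyV t)} := by
  obtain ⟨ū, hū⟩ := hp
  change IsLocalRing.maximalIdeal _ = Ideal.span {ū} at hū
  have hū0 : ū ≠ 0 := fun h0 => by
    have h1 := Groth.L03.BlowPt.Factor.dim_add_one_le (genericPoint_specializes z) hzne.symm
    have hF : IsField (Z.presheaf.stalk z) := by
      rw [IsLocalRing.isField_iff_maximalIdeal_eq, hū, h0, Ideal.span_singleton_eq_bot]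
    rw [ringKrullDim_eq_zero_of_isField hF] at h1
    have h2 : (0 : WithBot ℕ∞) + 1 ≤ 0 :=
      le_trans (add_le_add ringKrullDim_nonneg_of_nontrivial le_rfl) h1
    exact absurd h2 (by decide)
  obtain ⟨u, hu⟩ := j.stalkMap_surjective z ū
  obtain ⟨V₀, hyV₀, b, rfl⟩ := Y.presheaf.exists_germ_eq u
  let w : Γ(Z, j ⁻¹ᵁ V₀) := j.app V₀ b
  have hw : Z.presheaf.germ (j ⁻¹ᵁ V₀) z hyV₀ w = ū := (Scheme.Hom.germ_stalkMap_apply j V₀ z hyV₀ b).symm.trans hu
  haveI : Nonempty (j ⁻¹ᵁ V₀ : Z.Opens) := ⟨⟨z, hyV₀⟩⟩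
  have hgw : genericPoint Z ∈ Z.basicOpen w :=
    ((genericPoint_spec Z).mem_open_set_iff (Z.basicOpen w).2).2 (by
      rw [Set.univ_inter]
      refine (Opens.ne_bot_iff_nonempty _).1 fun h => hū0 ?_
      rw [← hw, (basicOpen_eq_bot_iff w).1 h, map_zero])
  let S : Set Z := {p | p ∉ Z.basicOpen w ∧ p ≠ z}
  have hSfin : S.Finite :=
    (Groth.L18.Curve.finite_of_forall_isClosed (Z.basicOpen w).2.isClosed_compl fun p hp =>
      Groth.L05.ProjLines.isClosed_of_ne_generic hd.le fun e => hp (e ▸ hgw)).subset fun p hp => hp.1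
  have hSc : IsClosed (j '' S) := by
    rw [← Set.biUnion_of_singleton S, Set.image_iUnion₂]
    exact hSfin.isClosed_biUnion fun p hp => j.isClosedEmbedding.isClosedMap _
      (Groth.L05.ProjLines.isClosed_of_ne_generic hd.le fun e => hp.1 (e ▸ hgw))
  obtain ⟨V, hV, hyV, hVle⟩ := exists_isAffineOpen_mem_and_subset (x := j z)
    (U := V₀ ⊓ O ⊓ (⟨(j '' S)ᶜ, hSc.isOpen_compl⟩ : Y.Opens))
    ⟨⟨hyV₀, hzO⟩, fun ⟨p, hp, hpz⟩ => hp.2 (j.isClosedEmbedding.injective hpz)⟩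
  have hVV₀ : V ≤ V₀ := fun p hp => (hVle hp).1.1
  refine ⟨V, hV, hyV, Y.presheaf.map (homOfLE hVV₀).op b, fun p hp => (hVle hp).1.2, ?_, ?_⟩
  · rw [Scheme.basicOpen_res]
    ext p
    refine ⟨fun ⟨h1, h2⟩ => ⟨h1, fun h3 => ?_⟩, fun ⟨h1, h2⟩ => ⟨h1, ?_⟩⟩
    · rw [Set.mem_singleton_iff] at h3
      subst h3
      have h4 := ((Scheme.mem_basicOpen Y b (j z) hyV₀).1 h2).map (j.stalkMap z).hom
      change IsUnit (j.stalkMap z (Y.presheaf.germ V₀ (j z) hyV₀ b)) at h4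
      rw [hu, ← Ideal.span_singleton_eq_top, ← hū] at h4
      exact (IsLocalRing.maximalIdeal.isMaximal _).ne_top h4
    · obtain ⟨c, rfl⟩ := hO (hVle h1).1.2
      have hcw : c ∈ Z.basicOpen w := by
        by_contra hc
        exact (hVle h1).2 ⟨c, ⟨hc, fun e => h2 (congrArg j e)⟩, rfl⟩
      rw [show Z.basicOpen w = j ⁻¹ᵁ Y.basicOpen b from (Scheme.preimage_basicOpen j b).symm] at hcw
      exact hcw
  · rw [Y.presheaf.germ_res_apply, hu, hū]

/-- Off the point, a unit is a power of the parameter times a unit times a power of exponent `q`. -/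
theorem exists_decomp {z : Z} (hzne : z ≠ genericPoint Z)
    {O V : Y.Opens} (hV : IsAffineOpen V) (hyV : j z ∈ V) (hVO : V ≤ O) (hO : (O : Set Y) ⊆ Set.range j)
    {t : Γ(Y, V)} (ht : (Y.basicOpen t : Set Y) = (V : Set Y) \ {j z})
    (hunif : IsLocalRing.maximalIdeal (Z.presheaf.stalk z) = Ideal.span {j.stalkMap z (Y.presheaf.germ V (j z) hyV t)})
    {U : Y.Opens} (hVU : V ⊓ U = Y.basicOpen t) (τ : Γ(Y, V ⊓ U)ˣ)
    (hτ : (τ : Γ(Y, V ⊓ U)) = Y.presheaf.map (homOfLE (inf_le_left : V ⊓ U ≤ V)).op t)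
    {q : ℕ} (hq0 : q ≠ 0) (hq : IsUnit (q : Γ(Y, ⊤))) (v : Γ(Y, V ⊓ U)ˣ) :
    ∃ (V' : Y.Opens) (hV' : V' ≤ V) (u : Γ(Y, V')ˣ) (a : ℤ) (w : Γ(Y, V' ⊓ U)ˣ), j z ∈ V' ∧
      resU (inf_le_inf_right U hV') v =
        resU (inf_le_inf_right U hV') τ ^ a * resU (inf_le_left : V' ⊓ U ≤ V') u * w ^ q := by
  haveI : IsNoetherianRing (Z.presheaf.stalk z) := inferInstance
  set τbar := j.stalkMap z (Y.presheaf.germ V (j z) hyV t) with hτbar
  letI : Algebra Γ(Y, V) Γ(Y, V ⊓ U) := (Y.presheaf.map (homOfLE (inf_le_left : V ⊓ U ≤ V)).op).hom.toAlgebra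
  haveI : IsLocalization.Away t Γ(Y, V ⊓ U) :=
    hV.isLocalization_of_eq_basicOpen t (homOfLE inf_le_left) hVU
  obtain ⟨n, c, hc⟩ := IsLocalization.Away.surj t (v : Γ(Y, V ⊓ U))
  change (v : Γ(Y, V ⊓ U)) * Y.presheaf.map (homOfLE inf_le_left).op t ^ n =
    Y.presheaf.map (homOfLE inf_le_left).op c at hc
  rw [← hτ] at hc
  have hcu : IsUnit (Y.presheaf.map (homOfLE (inf_le_left : V ⊓ U ≤ V)).op c) :=
    hc ▸ v.isUnit.mul (τ.isUnit.pow n)
  have hgen : j (genericPoint Z) ⤳ j z := (genericPoint_specializes z).map j.continuous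
  have hgU : j (genericPoint Z) ∈ V ⊓ U := by
    rw [hVU]
    show j (genericPoint Z) ∈ (Y.basicOpen t : Set Y)
    rw [ht]
    exact ⟨hgen.mem_open V.2 hyV, fun h => hzne (j.isClosedEmbedding.injective h).symm⟩
  have hc0 : j.stalkMap z (Y.presheaf.germ V (j z) hyV c) ≠ 0 := fun h0 => by
    obtain ⟨m, hm⟩ := isNilpotent_of_stalkMap_eq_zero j (hVO hyV) hO h0
    rw [← map_pow] at hm
    obtain ⟨W, hyW, i₁, _, he⟩ := Y.presheaf.germ_eq (j z) hyV hyV (c ^ m) 0 (hm.trans (map_zero _).symm)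
    rw [map_zero] at he
    have hgW : j (genericPoint Z) ∈ W := hgen.mem_open W.2 hyW
    have h1 := (hcu.map (Y.presheaf.germ _ _ hgU).hom).pow m
    change IsUnit ((Y.presheaf.germ _ _ hgU (Y.presheaf.map (homOfLE inf_le_left).op c)) ^ m) at h1
    rw [Y.presheaf.germ_res_apply, ← map_pow, ← Y.presheaf.germ_res_apply i₁ _ hgW, he, map_zero] at h1
    exact not_isUnit_zero h1
  -- the local ring of the component
  have hτ0 : τbar ≠ 0 := fun h0 => by
    have h1 := Groth.L03.BlowPt.Factor.dim_add_one_le (genericPoint_specializes z) hzne.symm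
    have hF : IsField (Z.presheaf.stalk z) := by
      rw [IsLocalRing.isField_iff_maximalIdeal_eq, hunif, h0, Ideal.span_singleton_eq_bot]
    rw [ringKrullDim_eq_zero_of_isField hF] at h1
    have h2 : (0 : WithBot ℕ∞) + 1 ≤ 0 :=
      le_trans (add_le_add ringKrullDim_nonneg_of_nontrivial le_rfl) h1
    exact absurd h2 (by decide)
  haveI : IsPrincipalIdealRing (Z.presheaf.stalk z) :=
    (tfae_of_isNoetherianRing_of_isLocalRing_of_isDomain (Z.presheaf.stalk z)).out 4 0 |>.mp (show (IsLocalRing.maximalIdeal (Z.presheaf.stalk z)).IsPrincipal from ⟨τbar, hunif⟩)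
  haveI : IsDiscreteValuationRing (Z.presheaf.stalk z) :=
    { not_a_field' := fun h => hτ0 (Ideal.span_singleton_eq_bot.1 (hunif ▸ h)) }
  have hirr : Irreducible τbar := (IsDiscreteValuationRing.irreducible_iff_uniformizer _).2 hunif
  obtain ⟨b, ub, hub⟩ := IsDiscreteValuationRing.eq_unit_mul_pow_irreducible hc0 hirr
  obtain ⟨uy, huy⟩ := j.stalkMap_surjective z (ub : Z.presheaf.stalk z)
  haveI : IsLocalHom (j.stalkMap z).hom := inferInstance
  have huyu : IsUnit uy := isUnit_of_map_unit (j.stalkMap z).hom _ (huy ▸ ub.isUnit)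
  obtain ⟨W₁, hyW₁, u₁, rfl⟩ := Y.presheaf.exists_germ_eq uy
  let W : Y.Opens := V ⊓ Y.basicOpen u₁
  have hyW : j z ∈ W := ⟨hyV, (Scheme.mem_basicOpen Y u₁ _ hyW₁).2 huyu⟩
  have hWV : W ≤ V := inf_le_left
  have hWu : W ≤ Y.basicOpen u₁ := inf_le_right
  let uW : Γ(Y, W) := Y.presheaf.map (homOfLE (hWu.trans (Y.basicOpen_le u₁))).op u₁
  have huW : IsUnit uW := by
    have h := (RingedSpace.isUnit_res_basicOpen (X := Y.toLocallyRingedSpace.toRingedSpace) u₁).map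
      (Y.presheaf.map (homOfLE hWu).op).hom
    convert h using 1
    exact (Groth.L21.Extend.rO_rO hWu (Y.basicOpen_le u₁) u₁).symm
  let ν : Γ(Y, W) := Y.presheaf.map (homOfLE hWV).op c - uW * Y.presheaf.map (homOfLE hWV).op t ^ b
  have hνnil : IsNilpotent (Y.presheaf.germ W (j z) hyW ν) := by
    refine isNilpotent_of_stalkMap_eq_zero j (hVO hyV) hO ?_
    simp only [ν, uW, map_sub, map_mul, map_pow, Y.presheaf.germ_res_apply]
    rw [huy, hub, ← hτbar, sub_self]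
  obtain ⟨m, hm⟩ := hνnil
  rw [← map_pow] at hm
  obtain ⟨V', hyV', i₁, _, he⟩ := Y.presheaf.germ_eq (j z) hyW hyW (ν ^ m) 0 (hm.trans (map_zero _).symm)
  rw [map_zero] at he
  have hV'W : V' ≤ W := i₁.le
  let u : Γ(Y, V')ˣ := (huW.map (Y.presheaf.map (homOfLE hV'W).op).hom).unit
  have h2 : V' ⊓ U ≤ V ⊓ U := inf_le_inf_right U (hV'W.trans hWV)
  let T := resU h2 τ
  let r : Γ(Y, W) →+* Γ(Y, V' ⊓ U) := (Y.presheaf.map (homOfLE (inf_le_left.trans hV'W : V' ⊓ U ≤ W)).op).hom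
  let u' := resU (inf_le_left : V' ⊓ U ≤ V') u
  have hu' : (u' : Γ(Y, V' ⊓ U)) = r uW := Groth.L21.Extend.rO_rO _ _ uW
  have hT : (T : Γ(Y, V' ⊓ U)) = r (Y.presheaf.map (homOfLE hWV).op t) := by
    show Y.presheaf.map (homOfLE h2).op (τ : Γ(Y, V ⊓ U)) = _
    rw [hτ]
    exact (Groth.L21.Extend.rO_rO _ _ t).trans (Groth.L21.Extend.rO_rO _ _ t).symm
  have hcr : r (Y.presheaf.map (homOfLE hWV).op c) = ((resU h2 v : Γ(Y, V' ⊓ U)ˣ) : Γ(Y, V' ⊓ U)) * (T : Γ(Y, V' ⊓ U)) ^ n := by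
    show _ = Y.presheaf.map (homOfLE h2).op (v : Γ(Y, V ⊓ U)) * Y.presheaf.map (homOfLE h2).op (τ : Γ(Y, V ⊓ U)) ^ n
    rw [← map_pow, ← map_mul, hc]
    exact (Groth.L21.Extend.rO_rO _ _ c).trans (Groth.L21.Extend.rO_rO _ _ c).symm
  have hrν : IsNilpotent (r ν) := by
    refine ⟨m, ?_⟩
    rw [← map_pow]
    have := congrArg (Y.presheaf.map (homOfLE (inf_le_left : V' ⊓ U ≤ V')).op) he
    rw [map_zero] at this
    exact (Groth.L21.Extend.rO_rO _ _ (ν ^ m)).symm.trans this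
  have hqu : IsUnit (q : Γ(Y, V' ⊓ U)) := by
    have := hq.map (Y.presheaf.map (homOfLE (le_top : V' ⊓ U ≤ ⊤)).op).hom
    rwa [map_natCast] at this
  obtain ⟨w₀, hw₀⟩ := exists_root_one_add hqu
    ((Commute.all _ _).isNilpotent_mul_right hrν : IsNilpotent (r ν * ((u' * T ^ b)⁻¹ : Γ(Y, V' ⊓ U)ˣ)))
  have hw₀u : IsUnit (w₀ ^ q) := hw₀.symm ▸ ((Commute.all _ _).isNilpotent_mul_right hrν : IsNilpotent (r ν * ((u' * T ^ b)⁻¹ : Γ(Y, V' ⊓ U)ˣ))).isUnit_one_add
  refine ⟨V', hV'W.trans hWV, u, (b : ℤ) - n, ((isUnit_pow_iff hq0).1 hw₀u).unit, hyV', ?_⟩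
  have key : resU h2 v * T ^ n = T ^ b * u' * ((isUnit_pow_iff hq0).1 hw₀u).unit ^ q := by
    refine Units.ext ?_
    rw [Units.val_mul, Units.val_mul, Units.val_mul, Units.val_pow_eq_pow_val, Units.val_pow_eq_pow_val,
      Units.val_pow_eq_pow_val, IsUnit.unit_spec, hw₀, mul_add, mul_one, ← hcr]
    have h3 : (T : Γ(Y, V' ⊓ U)) ^ b * u' * (r ν * ((u' * T ^ b)⁻¹ : Γ(Y, V' ⊓ U)ˣ)) = r ν := by
      rw [mul_left_comm, mul_comm ((T : Γ(Y, V' ⊓ U)) ^ b), ← Units.val_pow_eq_pow_val, ← Units.val_mul,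
        Units.mul_inv, mul_one]
    rw [h3, hu', hT, ← map_pow, ← map_mul, ← map_add]
    congr 1
    show _ = _ + (_ - _)
    ring
  show resU h2 v = T ^ ((b : ℤ) - n) * u' * _
  rw [zpow_sub, zpow_natCast, zpow_natCast, mul_right_comm (T ^ b), mul_right_comm (T ^ b * u'), ← key,
    mul_inv_cancel_right]

end Groth.L12.PicModQ
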