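import Groth.Agent.L12.PicModQ.Exps
import Groth.Agent.L12.PicModQ.Local
import Groth.Agent.L12.PicModQ.Affine
import Groth.Agent.L22.CurveAmple.Affine
import Groth.Agent.L22.CurveDeg.NonSpecial
import Groth.Agent.L26.AV.InterPic

/-!
The Picard group of a proper curve modulo an invertible exponent is generated by one class for each
component.
-/

set_option autoImplicit false
set_option linter.style.haveILetI false
set_option linter.unusedSectionVars false
set_option backward.isDefEq.respectTransparency false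
set_option maxHeartbeats 400000

universe u

open CategoryTheory CategoryTheory.Limits AlgebraicGeometry TopologicalSpace Opposite

noncomputable section

namespace Groth.L12.PicModQ

open Groth.L22.PicGlue
open Groth.L21.Extend (rs rO rs_rs rs_smul IsGen GenOn SupportedOn)

/-- An extension of a class on an open whose complement is finite and closed pointwise. -/
theorem exists_extension_class {Y : Scheme.{u}} [IsNoetherian Y] (hd : topologicalKrullDim Y ≤ 1)
    (U : Y.Opens) {κ : Type u} (y : κ → Y) (O : κ → Y.Opens) (hyU : ∀ i, y i ∉ U) (hyO : ∀ i, y i ∈ O i)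
    (hO : ∀ i, ∀ p ∈ O i, p ∉ U → p = y i) (hinj : Function.Injective y) (hcov : ∀ p, p ∉ U → ∃ i, p = y i)
    (N : U.toScheme.Modules) (hN : PicF.IsInvertible N) :
    ∃ M : Y.Modules, PicF.IsInvertible M ∧ Nonempty ((Scheme.Modules.pullback U.ι).obj M ≅ N) := by
  let A := (Scheme.Modules.pushforward U.ι).obj N
  have hs : SupportedOn A U := Groth.L21.Extend.supportedOn_pushforward le_rfl N
  have hgen : GenOn A U := Groth.L21.Extend.genOn_pushforward N hN
  choose W e hyW hWO he using fun i =>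
    exists_puncture_gen U A hgen (y i) (hyU i) (O i) (hyO i) (hO i) ((ringKrullDim_stalk_le (y i)).trans hd)
  let D : ExtInput U A :=
    { κ := κ
      N := W
      e := e
      isGen := he
      inter := fun i l hil p hp => by
        by_contra hn
        exact hil (hinj ((hO i p (hWO i hp.1) hn).symm.trans (hO l p (hWO l hp.2) hn)))
      cover := fun p hp => by
        obtain ⟨i, rfl⟩ := hcov p hp
        exact ⟨i, hyW i⟩ }
  obtain ⟨φ⟩ := nonempty_iso_restrict hgen D hs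
  exact ⟨extension hgen D, isInvertible_extension hgen D,
    ⟨((Scheme.Modules.restrictFunctorIsoPullback U.ι).app _).symm ≪≫ φ ≪≫
      (Scheme.Modules.restrictFunctorAdjCounitIso U.ι).app N⟩⟩

variable (k : Type u) [Field k] [IsAlgClosed k] {Y : Scheme.{u}} [Y.Over (Spec (CommRingCat.of k))]
  [IsProper (Y ↘ Spec (CommRingCat.of k))]

include k in
/-- Modulo `q`-th powers the Picard group is generated by one class per component. -/
theorem exists_generators (hd : topologicalKrullDim Y ≤ 1) {n : ℕ} {Z : Fin n → Scheme.{u}}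
    (j : ∀ i, Z i ⟶ Y) [∀ i, IsClosedImmersion (j i)] [∀ i, IsIntegral (Z i)]
    (hdim : ∀ i, topologicalKrullDim (Z i) = 1) (hcov : ∀ p : Y, ∃ i, p ∈ Set.range (j i))
    (hne : ∀ i l, i ≠ l → j i (genericPoint (Z i)) ∉ Set.range (j l))
    {q : ℕ} [NeZero q] (hq : (q : k) ≠ 0) [PicGrp.Law Y] :
    ∃ P : Fin n → PicLoc.PicSet Y, ∀ c : PicLoc.PicSet Y,
      ∃ (a : Fin n → ℤ) (d : PicLoc.PicSet Y), c = (∏ i, P i ^ a i) * d ^ q := by
  classical
  obtain rfl : ‹PicGrp.Law Y› = Groth.Agent.AV.InterPic.picLaw Y := Subsingleton.elim _ _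
  letI : PicGrp.Law Y := Groth.Agent.AV.InterPic.picLaw Y
  haveI := Groth.L21.RR.isNoetherian_of_proper (X := Y) k
  letI : ∀ i, (Z i).Over (Spec (CommRingCat.of k)) := fun i => ⟨j i ≫ (Y ↘ Spec (CommRingCat.of k))⟩
  haveI : ∀ i, IsProper (Z i ↘ Spec (CommRingCat.of k)) := fun i =>
    inferInstanceAs (IsProper (j i ≫ (Y ↘ Spec (CommRingCat.of k))))
  haveI : ∀ i, IsNoetherian (Z i) := fun i => Groth.L21.RR.isNoetherian_of_proper (X := Z i) k
  have hqΓ : IsUnit (q : Γ(Y, ⊤)) := by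
    have := (isUnit_iff_ne_zero.2 hq).map
      ((Scheme.ΓSpecIso (CommRingCat.of k)).inv ≫ (Y ↘ Spec (CommRingCat.of k)).appTop).hom
    rwa [map_natCast] at this
  -- a point on each component
  let O : Fin n → Y.Opens := fun i => ⟨(⋃ l ∈ {l | l ≠ i}, Set.range (j l))ᶜ,
    ((Set.toFinite _).isClosed_biUnion fun l _ => (j l).isClosedEmbedding.isClosed_range).isOpen_compl⟩
  have hOmem : ∀ i p, p ∈ O i ↔ ∀ l, l ≠ i → p ∉ Set.range (j l) := fun i p => by
    refine ⟨fun h l hl hp => h (Set.mem_iUnion₂.2 ⟨l, hl, hp⟩), fun h hp => ?_⟩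
    obtain ⟨l, hl, hp⟩ := Set.mem_iUnion₂.1 hp
    exact h l hl hp
  have hOr : ∀ i, (O i : Set Y) ⊆ Set.range (j i) := fun i p hp => by
    obtain ⟨l, hl⟩ := hcov p
    by_cases hli : l = i
    · exact hli ▸ hl
    · exact absurd hl ((hOmem i p).1 hp l hli)
  choose z hzO hzc hzne hzp using fun i => Groth.L22.CurveDeg.exists_regular_point_mem k (hdim i)
    (j i ⁻¹ᵁ O i) ((hOmem i _).2 fun l hl => hne i l hl.symm)
  let y : Fin n → Y := fun i => j i (z i)
  have hyuniq : ∀ i l, y l ∈ O i → l = i := fun i l h => by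
    by_contra hli
    exact (hOmem i _).1 h l hli ⟨z l, rfl⟩
  choose V hV hyV t hVO ht hunif using fun i =>
    exists_param (j i) (hdim i) (hzc i) (hzne i) (hzp i) (hzO i) (hOr i)
  have hyc : ∀ i, IsClosed ({y i} : Set Y) := fun i => by
    have h := (j i).isClosedEmbedding.isClosedMap _ (hzc i)
    rwa [Set.image_singleton] at h
  let U : Y.Opens := ⟨(⋃ i, ({y i} : Set Y))ᶜ, (isClosed_iUnion_of_finite hyc).isOpen_compl⟩
  have hU : ∀ p, p ∉ U ↔ ∃ i, p = y i := fun p => by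
    show ¬ (p ∈ (⋃ i, ({y i} : Set Y))ᶜ) ↔ _
    simp [eq_comm]
  have hyU : ∀ i, y i ∉ U := fun i => (hU _).2 ⟨i, rfl⟩
  have hVU : ∀ i, V i ⊓ U = Y.basicOpen (t i) := fun i => by
    refine TopologicalSpace.Opens.ext ?_
    rw [ht i]
    ext p
    refine ⟨fun h => ⟨h.1, fun hp => ?_⟩, fun h => ⟨h.1, ?_⟩⟩
    · rw [Set.mem_singleton_iff] at hp
      exact hyU i (show y i ∈ U from (show p = y i from hp) ▸ h.2)
    · by_contra hn
      obtain ⟨l, rfl⟩ := (hU p).1 hn
      exact h.2 (congrArg y (hyuniq i l (hVO i h.1)))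
  -- the open is affine
  have hUaff : IsAffineOpen U := by
    refine Groth.L22.CurveAmple.isAffineOpen_of_boundary k hd U (fun η hη => ?_) fun p hp => ?_
    · by_contra hn
      obtain ⟨i, rfl⟩ := (hU η).1 hn
      exact hzne i ((j i).isClosedEmbedding.injective
        (hη _ ((genericPoint_specializes (z i)).map (j i).continuous))).symm
    · obtain ⟨i, w, rfl⟩ := hcov p
      have hw : w = genericPoint (Z i) := by
        by_contra hw
        refine hp ?_
        have h := (j i).isClosedEmbedding.isClosedMap _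
          (Groth.L05.ProjLines.isClosed_of_ne_generic (hdim i).le hw)
        rwa [Set.image_singleton] at h
      exact ⟨y i, hw ▸ (genericPoint_specializes (z i)).map (j i).continuous, hyU i⟩
  haveI : IsAffine U.toScheme := hUaff
  letI : PicGrp.Law U.toScheme := Groth.Agent.AV.InterPic.picLaw _
  have hUd : topologicalKrullDim U.toScheme ≤ 1 :=
    U.ι.isOpenEmbedding.isInducing.topologicalKrullDim_le.trans hd
  -- the classes
  let κ := ULift.{u} (Fin n)
  let τ : ∀ i : κ, Γ(Y, V i.down ⊓ U)ˣ := fun i =>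
    IsUnit.unit (show IsUnit (Y.presheaf.map (homOfLE (inf_le_left : V i.down ⊓ U ≤ V i.down)).op (t i.down)) by
      have h := (RingedSpace.isUnit_res_basicOpen (X := Y.toLocallyRingedSpace.toRingedSpace) (t i.down)).map
        (Y.presheaf.map (homOfLE (hVU i.down).le).op).hom
      convert h using 1
      exact (Groth.L21.Extend.rO_rO (hVU i.down).le (Y.basicOpen_le (t i.down)) (t i.down)).symm)
  have hsep : ∀ (W : κ → Y.Opens), (∀ i, W i ≤ O i.down) → (∀ i, y i.down ∈ W i) → Cover U W := fun W hW hyW =>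
    ⟨fun i l hil p hp => by
      by_contra hn
      obtain ⟨m, rfl⟩ := (hU p).1 hn
      exact hil (ULift.ext _ _ ((hyuniq _ m (hW i hp.1)).symm.trans (hyuniq _ m (hW l hp.2)))),
    fun p hp => by
      obtain ⟨m, rfl⟩ := (hU p).1 hp
      exact ⟨⟨m⟩, hyW ⟨m⟩⟩⟩
  have hc : Cover U (fun i : κ => V i.down) := hsep _ (fun i => hVO _) fun i => hyV _
  obtain ⟨Φ, hΦ⟩ := exists_hom hc
  refine ⟨fun i => Φ (Pi.mulSingle (⟨i⟩ : κ) (τ ⟨i⟩)), fun c => ?_⟩
  -- divide on the open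
  obtain ⟨Z₀, hZ₀⟩ := pic_affine_divisible (U.ι ≫ (Y ↘ Spec (CommRingCat.of k))) hUd q hq
    (Additive.ofMul (Groth.Agent.AV.InterPic.pullPic U.ι c))
  have hz : Z₀.toMul ^ q = Groth.Agent.AV.InterPic.pullPic U.ι c := congrArg Additive.toMul hZ₀
  obtain ⟨N, hN, hNZ⟩ := PicGrp.exists_eq_cls Z₀.toMul
  obtain ⟨M, hM, ⟨eMN⟩⟩ := exists_extension_class hd U (fun i : κ => y i.down) (fun i => O i.down)
    (fun i => hyU _) (fun i => hzO _) (fun i p hp hn => by
      obtain ⟨m, rfl⟩ := (hU p).1 hn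
      exact congrArg y (hyuniq _ m hp))
    (fun i l h => ULift.ext _ _ (hyuniq _ _ (show y i.down ∈ O l.down from (show y i.down = y l.down from h) ▸ hzO _)))
    (fun p hp => ((hU p).1 hp).elim fun i hi => ⟨⟨i⟩, hi⟩) N hN
  obtain ⟨L', hL', hL'c⟩ := PicGrp.exists_eq_cls (c / PicGrp.cls M hM ^ q)
  have h1 : Groth.Agent.AV.InterPic.pullPic U.ι (PicGrp.cls L' hL') = 1 := by
    have hMN : Groth.Agent.AV.InterPic.pullPic U.ι (PicGrp.cls M hM) = Z₀.toMul := by
      rw [hNZ, Groth.Agent.AV.InterPic.pullPic, PicGrp.pullHom_cls, PicGrp.cls_eq_cls_iff]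
      exact ⟨eMN⟩
    rw [← hL'c, map_div, map_pow, hMN, hz, div_self']
  rw [Groth.Agent.AV.InterPic.pullPic, PicGrp.pullHom_cls, PicGrp.cls_eq_one_iff] at h1
  obtain ⟨φ⟩ := h1
  obtain ⟨e, he⟩ := Groth.L21.Extend.exists_gen_of_iso L'
    ((Scheme.Modules.restrictFunctorIsoPullback U.ι).app L' ≪≫ φ)
  -- frames near the points
  choose W l hyW hl using fun i : κ => Groth.L18.Frame.exists_frame hL' (y i.down)
  choose V₁ hV₁ hy₁ hV₁le using fun i : κ =>
    exists_isAffineOpen_mem_and_subset (x := y i.down) (U := V i.down ⊓ W i) ⟨hyV _, hyW i⟩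
  have h₁V : ∀ i, V₁ i ≤ V i.down := fun i p hp => (hV₁le i hp).1
  have h₁W : ∀ i, V₁ i ≤ W i := fun i p hp => (hV₁le i hp).2
  have hl₁ : ∀ i, IsGen L' (V₁ i) (rs L' (h₁W i) (l i)) := fun i => IsGen.restrict L' (hl i) _
  choose v hv using fun i => (he (V₁ i ⊓ U) inf_le_right).2 (rs L' inf_le_left (rs L' (h₁W i) (l i)))
  have hvu : ∀ i, IsUnit (v i) := fun i => by
    have h := (hl₁ i).restrict L' (inf_le_left : V₁ i ⊓ U ≤ V₁ i)
    rw [← show v i • rs L' inf_le_right e = _ from hv i] at h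
    exact Groth.L18.Frame.isUnit_of_isFrame (he.restrict L' inf_le_right) h
  let τ₁ : ∀ i, Γ(Y, V₁ i ⊓ U)ˣ := fun i => resU (inf_le_inf_right U (h₁V i)) (τ i)
  have hloc : ∀ i : κ, ∃ (V' : Y.Opens) (hV' : V' ≤ V₁ i) (u : Γ(Y, V')ˣ) (a : ℤ) (w : Γ(Y, V' ⊓ U)ˣ),
      y i.down ∈ V' ∧ resU (inf_le_inf_right U hV') (hvu i).unit =
        resU (inf_le_inf_right U hV') (τ₁ i) ^ a * resU (inf_le_left : V' ⊓ U ≤ V') u * w ^ q := fun i => by
    let t₁ : Γ(Y, V₁ i) := Y.presheaf.map (homOfLE (h₁V i)).op (t i.down)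
    have hb : Y.basicOpen t₁ = V₁ i ⊓ Y.basicOpen (t i.down) := Y.basicOpen_res _ _
    refine exists_decomp (j i.down) (hzne i.down) (hV₁ i) (hy₁ i) ((h₁V i).trans (hVO i.down)) (hOr i.down)
      (t := t₁) ?_ ?_ ?_ (τ₁ i) ?_ (NeZero.ne q) hqΓ (hvu i).unit
    · rw [hb, TopologicalSpace.Opens.coe_inf, ht i.down]
      ext p
      exact ⟨fun h => ⟨h.1, h.2.2⟩, fun h => ⟨h.1, h₁V i h.1, h.2⟩⟩
    · rw [Y.presheaf.germ_res_apply]
      exact hunif i.down
    · rw [hb, ← hVU i.down, ← inf_assoc, inf_eq_left.2 (h₁V i)]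
    · exact (Groth.L21.Extend.rO_rO _ _ (t i.down)).trans (Groth.L21.Extend.rO_rO _ _ (t i.down)).symm
  choose V₂ hV₂ uu a ww hy₂ hdec using hloc
  have h₂V : ∀ i, V₂ i ≤ V i.down := fun i => (hV₂ i).trans (h₁V i)
  have hc₂ : Cover U V₂ := hsep _ (fun i => (h₂V i).trans (hVO _)) hy₂
  obtain ⟨Ψ, hΨ⟩ := exists_hom hc₂
  let res : ∀ i, Γ(Y, V i.down ⊓ U)ˣ →* Γ(Y, V₂ i ⊓ U)ˣ := fun i => resU (inf_le_inf_right U (h₂V i))
  have hres : ∀ x, Ψ (fun i => res i (x i)) = Φ x := fun x => by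
    obtain ⟨Lx, hLx, hLxt⟩ := exists_hasTrans hc x
    rw [hΦ x Lx hLx hLxt]
    exact hΨ _ Lx hLx (hLxt.restrict h₂V)
  have hcL : Ψ (fun i => resU (inf_le_inf_right U (hV₂ i)) (hvu i).unit) = PicGrp.cls L' hL' := by
    refine hΨ _ L' hL' (HasTrans.restrict (N := V₁) (v := v) hV₂ ⟨e, fun i => rs L' (h₁W i) (l i), he, hl₁,
      fun i => (hv i).symm⟩)
  have hu1 : Ψ (fun i => resU (inf_le_left : V₂ i ⊓ U ≤ V₂ i) (uu i)) = 1 := by
    refine (hΨ _ _ (Groth.L21.Extend.isInvertible_structureModule Y)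
      (hasTrans_of_units (fun i => (uu i : Γ(Y, V₂ i))) fun i => (uu i).isUnit)).trans ?_
    exact PicGrp.cls_structureModule_eq_one
  have hsingle : ∀ i, Φ (Pi.mulSingle i (τ i)) = Ψ (Pi.mulSingle i (res i (τ i))) := fun i => by
    rw [← hres]
    congr 1
    funext l
    exact Pi.apply_mulSingle (fun l => res l) (fun l => map_one _) i (τ i) l
  refine ⟨fun i => a ⟨i⟩, PicGrp.cls M hM * Ψ ww, ?_⟩
  have hτa : Ψ (fun i => res i (τ i) ^ a i) = ∏ i : Fin n, Φ (Pi.mulSingle (⟨i⟩ : κ) (τ ⟨i⟩)) ^ a ⟨i⟩ := by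
    rw [← Finset.univ_prod_mulSingle (fun i => res i (τ i) ^ a i), map_prod]
    refine (Fintype.prod_equiv Equiv.ulift _ _ fun i => ?_)
    show Ψ (Pi.mulSingle i (res i (τ i) ^ a i)) = Φ (Pi.mulSingle i (τ i)) ^ a i
    rw [hsingle, Pi.mulSingle_zpow, map_zpow]
  have hkey : PicGrp.cls L' hL' = Ψ (fun i => res i (τ i) ^ a i) * Ψ ww ^ q := by
    rw [← hcL]
    have he' : (fun i => resU (inf_le_inf_right U (hV₂ i)) (hvu i).unit) = (fun i => res i (τ i) ^ a i) *
        (fun i => resU (inf_le_left : V₂ i ⊓ U ≤ V₂ i) (uu i)) * ww ^ q := by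
      funext i
      rw [hdec i]
      show _ = res i (τ i) ^ a i * _ * ww i ^ q
      congr 3
      exact Units.ext (Groth.L21.Extend.rO_rO _ _ ((τ i : Γ(Y, V i.down ⊓ U))))
    rw [he', map_mul, map_mul, hu1, mul_one, map_pow]
  show c = (∏ i : Fin n, Φ (Pi.mulSingle (⟨i⟩ : κ) (τ ⟨i⟩)) ^ a ⟨i⟩) * _
  rw [← hτa, mul_pow, mul_left_comm, ← hkey, ← hL'c, mul_div_cancel]

end Groth.L12.PicModQ
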